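import Cfsg.Agent.KSG.KInv.SpU
import Cfsg.Agent.KSG.KInv.Sp35
import Cfsg.Agent.SPOR.A10.HeCls
import Cfsg.Agent.SPOR.A10.HePin
import Cfsg.Agent.SPOR.A10.NetFix

/-! # Involution centralisers in the Held group -/

set_option autoImplicit false
set_option maxRecDepth 100000

namespace CL.KI.HeI

open Cfsg CL.MSS CL.K CL.CE CL.Net CL.A10 CL.A10.Hd CL.He Subgroup

variable {G : Type*} [Group G] [Finite G] (S : St G)

theorem charP_z : CharPIn 2 (C (S.el zc)) :=
  charP_of_equiv (charP_of_lx lx0) (S.equiv.trans (topEquiv.symm.trans (MulEquiv.subgroupCongr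
    (eq_top_iff.2 fun x _ => mem_C.2 (z1_comm x)).symm)))

theorem chkT : allT (fun x => Nat.beq (Hd.mul x tc) (Hd.mul tc x) ||
    Nat.beq (Hd.mul x tc) (Hd.mul (Hd.mul tc zc) x)) = true := by decide +kernel

theorem dvd_t (h : 2 ^ 10 ∣ Nat.card G) : 2 ^ 9 ∣ Nat.card (C (S.el tc)) := by
  obtain ⟨P, hP⟩ := Sylow.exists_subgroup_card_pow_prime 2 h
  obtain ⟨c, -, hc⟩ := S.max_top.conj (IsPGroup.of_card hP) le_top
  have h1 : 2 ^ 10 ≤ Nat.card S.T := by
    rw [← hP, ← card_map_of_injective (f := (MulAut.conj c).toMonoidHom) (MulAut.conj c).injective]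
    exact card_le_of_le (map_le_iff_le_comap.2 hc)
  have h2 : (cls S.T (S.el tc)).ncard ≤ 2 := by
    refine (Set.ncard_le_ncard (t := {S.el tc, S.el (Hd.mul tc zc)}) ?_).trans ((Set.ncard_insert_le _ _).trans (by simp))
    rintro _ ⟨n, hn, rfl⟩
    obtain ⟨x, hx, ht, rfl⟩ := S.exists_T hn
    have := allT_spec chkT hx ht
    simp only [Bool.or_eq_true, Nat.beq_eq] at this
    exact this.imp (S.conj_iff hx V_t V_t).2 (S.conj_iff hx V_t (V_t.mul St.V_z)).2
  have h3 := ncard_cls_mul S.T (S.el tc)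
  obtain ⟨k, hk⟩ := IsPGroup.iff_card.1 (S.T_p2.to_inf_left (K := C (S.el tc)))
  refine Dvd.dvd.trans ?_ (card_dvd_of_le (inf_le_right : S.T ⊓ C (S.el tc) ≤ _))
  rw [hk] at h3 ⊢
  exact pow_dvd_pow 2 ((Nat.pow_le_pow_iff_right (by norm_num : 1 < 2)).1 (by nlinarith))

theorem exists_cf : ∃ (S : St Spor.He) (n1 n4 : Spor.He) (t1 t4 : Bool), S.Cf n1 n4 t1 t4 := by
  have := He.isSimpleGroup
  have k : ∀ S : St Spor.He, S.Four → ∃ (S : St Spor.He) (n1 n4 : Spor.He) (t1 t4 : Bool), S.Cf n1 n4 t1 t4 := by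
    rintro S (⟨n, h, top⟩ | ⟨n1, n4, t1, t4, h, -⟩)
    · have := (cardLe_top_iff.1 (top ▸ leSt (h.pres (one_mul 1)))).2
      rw [He.card] at this
      omega
    · exact ⟨S, _, _, _, _, h⟩
  obtain ⟨S⟩ := exists_St_He
  have := CL.BS.not_isolated_of_simple (G := Spor.He) (fun hc => absurd
    ((S.cm_iff (V_lc (a := 0) (by norm_num)) (V_lc (a := 1) (by norm_num))).2 (hc.1.1 _ _))
    (by decide +kernel)) (S.el zc)
  simp only [Cfsg.IsIsolatedInvolution, S.orderOf_z, true_and, not_forall] at this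
  obtain ⟨g, h, hne⟩ := this
  exact (St.four h.symm.eq hne).elim (k _) (k _)

variable {S} {n1 n4 : G} {t1 t4 : Bool}

theorem two_cls (h : S.Cf n1 n4 t1 t4) {x : G} (hx : orderOf x = 2) : IsConj (S.el zc) x ∨ IsConj (S.el tc) x := by
  obtain ⟨c, hc, a, -, ha⟩ := S.exists_rep (C := ⊤) le_top (mem_top x) (sq_of_orderOf hx).1 (sq_of_orderOf hx).2
  obtain ⟨b, -, hb⟩ := h.fus hc
  have := ((isConj_iff.2 ⟨a, ha⟩).trans (isConj_iff.2 ⟨b, hb⟩)).symm
  revert this
  cases (msk t1 t4).testBit c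
  exacts [Or.inr, Or.inl]

theorem ot_t (h : S.Cf n1 n4 t1 t4) : OT (C (S.el tc)) := by
  have v : V u1 := V_of (by decide +kernel)
  have k : ∀ t1 t4, zt (msk t1 t4) u1 = true ∧ zt (msk t1 t4) (Hd.mul zc u1) = true := by decide +kernel
  refine ot_of_three (k := 1) ((sq _).trans (S.mul_eq_one V_t V_t (by decide +kernel))) S.z_sq
    (S.mul_eq_one v v (by decide +kernel)) (charP_z S) (charP_of_isConj (charP_z S)
      ((h.zm.zt_iff v (by decide +kernel) (by decide +kernel)).2 (k _ _).1)) ?_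
    (mem_C.2 (S.comm_z _).symm) (mem_C.2 ((S.cm_iff v V_t).1 (by decide +kernel)))
  rw [pow_one, ← S.el_mul St.V_z v]
  exact charP_of_isConj (charP_z S)
    ((h.zm.zt_iff (St.V_z.mul v) (by decide +kernel) (by decide +kernel)).2 (k _ _).2)

def wx : List ℕ := [2, 3, 5, 2, 3, 2, 3, 5, 3, 2, 3, 2, 1]

def EQ : List (List ℕ × List ℕ) := [(wx ++ [0], [0, 1, 0, 1] ++ wx), ([0, 0], []),
  (wpow [2, 3, 2, 3] 5, []), (wpow [3, 5, 6] 7, []), (wpow [3, 4] 3, []),
  ([2, 3, 2, 3] ++ [0], [0] ++ [2, 3, 2, 3]), ([3, 5, 6] ++ [0], [0] ++ [3, 5, 6]), ([3, 4] ++ [0], [0] ++ [3, 4])]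

theorem chkEQ : chkX nets0 2304 12 (Nat.pow 3 1400) EQ = true := by decide +kernel

def walkC : ℕ := 0x14cc2ca30b30a70c7116634612a188c28a25328a8e445b44a7114cc4e32d38d43132894cc51a7a30ca0504cc6508c23196825104887034c38447046a10a22a14586604e34ca81841a8cc70168331968b4cc2cc44204408108a6828110ca2cc68b06088888a8cc0d07108d02e20e084462041a0c88cb05c4d30d329865870a70c4420c465881a6a26414ca8086222d145830310c0c44222c22ca8428c45018834c329c4210842140e444169a6518531132d320c50842029929c09908381428c4cc4598236614e22a34c140b8c860165151c5184c209845450350821a28c5110994408532202885430812c42ca85145a80a0c270a06211144358a81a31170a85944471141c4cc45431a2e28086506a162280870888445a28a64285985410b88269a20c2818184c829c11c0842a16534220e320a8e231170b28b4c170468a0a285a1198534cb85940a31c3046547131196994114202206a180a88c4e21118c821168851161050c5138a170828c6884608544e02d18c88e18e26230c88d38ca28b2514140a268b45a85c50a8c32222cc21022260a8d110b2998d44438a071371a11c3046106444582204530832126628633102980ca8cb8ca8634e445c2a188a82304211a22331422171951a1130e0ad441a69084408851171c4d1608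

theorem chkWalk : (force (mvM nets0 2304 12 [0, 1, 0, 1]) fun m =>
    hasCard 7 (Nat.xor (Nat.pred (Nat.pow 2 2058)) m) 154 &&
      Nat.ble 1123 (walk nets0 hs 30263 walkC 1265 (Nat.xor m (Nat.pow 3 1400)) (Nat.pow 3 1400) 0 0)) = true := by
  decide +kernel

theorem chkFix : hasCard 7 (fixm nets0 2058 2304 12 [2, 3, 2, 3]) 8 = true := by decide +kernel

theorem facts : orderOf (g 0) = 2 ∧ Nat.card (C (g 0)) < 268800 ∧ 105 ∣ Nat.card (C (g 0)) ∧
    ∃ y ∈ C (g 0), orderOf y = 5 ∧ ∀ u, orderOf u = 7 → u * y ≠ y * u := by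
  have : Fact (Nat.Prime 5) := ⟨by norm_num⟩
  have : Fact (Nat.Prime 7) := ⟨by norm_num⟩
  have h := lift.ev_eq model.inj (valid0.eq_of_chkX (by norm_num) chkEQ)
  simp only [EQ, List.forall_mem_cons, ev_append, ev_wpow, ev_nil, ev_singleton] at h
  obtain ⟨e1, e2, e3, e4, e5, e6, e7, e8, -⟩ := h
  have o5 := orderOf_eq_prime e3 (lift.ne_one valid0 1 (by decide +kernel))
  have o7 := orderOf_eq_prime e4 (lift.ne_one valid0 1 (by decide +kernel))
  have o3 := orderOf_eq_prime e5 (lift.ne_one valid0 1 (by decide +kernel))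
  have d : ∀ {x}, x * g 0 = g 0 * x → orderOf x ∣ Nat.card (C (g 0)) := fun h => orderOf_dvd_natCard _ (mem_C.2 h)
  refine ⟨orderOf_eq_prime ((sq _).trans (by rwa [ev_cons, ev_singleton] at e2))
    (ev_singleton g 0 ▸ lift.ne_one valid0 1 (by decide +kernel)), ?_, ?_, _, mem_C.2 e6, o5, fun u hu e => ?_⟩
  · have := model.card_centralizer_le valid0 lift (b := 12) (by decide) (ev_mem_gen (by decide)) chkWalk
    rw [card_H, ← mul_inv_eq_iff_eq_mul.2 e1, show centralizer _ = _ from (map_conj_C _ _).symm,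
      card_map_of_injective (MulAut.conj _).injective] at this
    omega
  · exact Nat.Coprime.mul_dvd_of_dvd_of_dvd (m := 15) (n := 7) (by norm_num)
      (Nat.Coprime.mul_dvd_of_dvd_of_dvd (m := 3) (n := 5) (by norm_num) (o3 ▸ d e8) (o5 ▸ d e6)) (o7 ▸ d e7)
  · have := model.dvd_ncard_fx hu (by rw [card_H]; norm_num) e
    rw [← lift.bits_fixm valid0 (by norm_num) (b := 12) (by norm_num), ncard_bits chkFix] at this
    omega

end CL.KI.HeI

namespace CL.KI

open Cfsg CL.A10.Hd CL.He HeI Subgroup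

theorem allGd_He : AllGd Spor.He := by
  obtain ⟨S, n1, n4, t1, t4, h⟩ := exists_cf
  obtain ⟨f1, f2, f3, y, hy, f4, f5⟩ := facts
  have c : ∀ {s t : Spor.He}, IsConj s t → Nat.card (C t) = Nat.card (C s) := fun k => by
    obtain ⟨c, rfl⟩ := isConj_iff.1 k
    rw [← map_conj_C, card_map_of_injective (MulAut.conj _).injective]
  have k : IsConj (S.el tc) (g 0) := (two_cls h f1).resolve_left fun k => by
    rw [c k, show Nat.card (C (S.el zc)) = _ from S.card_H] at f3
    omega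
  have f6 := c k ▸ dvd_t S (by rw [He.card]; norm_num)
  obtain ⟨m, hm⟩ := Nat.Coprime.mul_dvd_of_dvd_of_dvd (by norm_num) f6 f3
  have h1 : One (C (g 0)) := by
    have m0 : m ≠ 0 := fun e => Nat.card_pos.ne' (hm.trans (by rw [e, mul_zero]))
    have m5 : m < 5 := by omega
    refine one_of_35 (a := 11) (b := 2) (by rw [hm]; interval_cases m <;> simp_all) fun a ha b hb h5 h7 e => ?_
    obtain ⟨u, i, hu⟩ := exists_conj_pow (X := C (g 0)) (q := 5) (a := 10752 * m) (by norm_num) (by omega) (by omega)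
      (x := ⟨a, ha⟩) (y := ⟨y, hy⟩) ((orderOf_coe _).symm.trans h5) ((orderOf_coe _).symm.trans f4)
    have hu : u * a ^ i * (u : Spor.He)⁻¹ = y := congrArg Subtype.val hu
    refine f5 (u * b * (u : Spor.He)⁻¹) ((MulAut.conj (u : Spor.He)).orderOf_eq b ▸ h7) ?_
    have := (Commute.pow_left (show Commute a b from e) i).eq
    rw [← hu]
    calc _ = u * (b * a ^ i) * (u : Spor.He)⁻¹ := by group
      _ = _ := by rw [← this]; group
  refine allGd_of_classes (S := {S.el zc, g 0}) (fun s hs => ?_) fun t ht =>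
    (two_cls h ht).elim (fun e => ⟨_, Or.inl rfl, e⟩) fun e => ⟨_, Or.inr rfl, k.symm.trans e⟩
  rcases hs with rfl | rfl
  · exact gd_of_charP (charP_z S)
  · obtain ⟨c, e⟩ := isConj_iff.1 k
    exact ⟨e ▸ (ot_t h).conj c, h1⟩

end CL.KI
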