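import Cfsg.Agent.KSG.KInv.Lee1
import Cfsg.Agent.KSG.KInv.Sp13
import Cfsg.Agent.FGS.CycMod
import Cfsg.Agent.SPOR.A10.SCx
import Cfsg.Prelude.Def_Classification2

namespace CL.KI

namespace Lee

open Cfsg Subgroup CL.Leech CL.MT CL.Co1T CL.K CL.Pack Polynomial
open CL.Golay (E)

/-- eight is invertible -/
noncomputable local instance inv8 : Invertible (8 : ℚ) := invertibleOfNonzero (by norm_num)

theorem rho_inj : Function.Injective (rhoR ℚ) := fun g h e => co_ext_e8 fun i => Subtype.ext (funext fun p => by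
  have := congrFun ((rhoR_castV ℚ g (e8 i)).symm.trans (e ▸ rhoR_castV ℚ h (e8 i))) p
  exact Int.cast_injective this)

theorem ord_y0 : orderOf (aut g52 ^ 4) = 13 :=
  have : Fact (Nat.Prime 13) := ⟨by norm_num⟩
  orderOf_eq_prime (by rw [← pow_mul, show 4 * 13 = 26 * 2 from rfl, pow_mul, g52_spec.1, sq, neg1_mul_self])
    g52_spec.2.1

theorem sum_y0 : ∑ i ∈ Finset.range 13, rhoR ℚ ((aut g52 ^ 4) ^ i) = 0 := lin_ext_e8 fun j => funext fun p => by
  have h := rep_aut (c := g52) (by decide +kernel)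
  have a : ∀ i, (((aut g52 ^ 4) ^ i • e8 j : leechLattice) : GolayPt → ℤ) =
      vec (itF (itF (ap g52) 4) i (c8 (E.enc j))) := fun i => by
    rw [← enc_e8, rep_pow (rep_pow h 4) i _ (by rw [sqNorm_e8]; norm_num),
      vec_enc (bd_of_sqNorm (by rw [sqNorm_smul, sqNorm_e8]; norm_num))]
  have b : allLt (fun j => allLt (fun e =>
      Nat.beq (sumLt (fun i => dg (itF (itF (ap g52) 4) i (c8 j)) e) 13) 104) 24) 24 = true := by
    decide +kernel
  have c := congrArg (Nat.cast : ℕ → ℚ) (Nat.eq_of_beq_eq_true (allLt_iff.1 (allLt_iff.1 b _ (E.enc_lt j)) _ (E.enc_lt p)))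
  simp only [LinearMap.sum_apply, Finset.sum_apply, rhoR_castV, castV, a, vec, LinearMap.zero_apply, Pi.zero_apply]
  rw [sumLt_eq] at c
  push_cast at c ⊢
  rw [Finset.sum_sub_distrib, c]
  norm_num

theorem cyc13 (y : Co0) (hy : orderOf y = 13) : aeval (rhoR ℚ y) (cyclotomic 13 ℚ) = 0 := by
  have : Fact (Nat.Prime 13) := ⟨by norm_num⟩
  obtain ⟨n, -, hn⟩ := A10.exists_conj_mem_rel (N := ⊤) (T := zpowers (aut g52 ^ 4)) (p := 13) (by norm_num) (by
    have := A10.relIndex_mul_card (le_top (a := zpowers (aut g52 ^ 4)))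
    rw [Nat.card_zpowers, ord_y0, card_top, card_Co0] at this
    omega) (t := y) trivial (k := 1) (by rw [pow_one, ← hy, pow_orderOf_eq_one])
  have h := SM.zp_ne ord_y0 hn fun e => by rw [conj_eq_one_iff.1 e] at hy; simp at hy
  refine LinearMap.ext (FGS.CycMod.aeval_cyclotomic_apply this.out _
    (by rw [← map_pow, ← hy, pow_orderOf_eq_one, map_one]) fun v hv => ?_)
  have a : ∀ g ∈ zpowers (n * y * n⁻¹), rhoR ℚ g (rhoR ℚ n v) = rhoR ℚ n v := fun g hg => by
    rw [← mem_powers_iff_mem_zpowers] at hg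
    obtain ⟨k, rfl⟩ := hg
    induction k with
    | zero => simp
    | succ k ih =>
      simp only at ih ⊢
      rw [pow_succ', map_mul, Module.End.mul_apply, ih, ← Module.End.mul_apply, ← map_mul, inv_mul_cancel_right,
        map_mul, Module.End.mul_apply, hv]
  have b := LinearMap.congr_fun sum_y0 (rhoR ℚ n v)
  rw [LinearMap.sum_apply, Finset.sum_congr rfl fun i _ => a _ (pow_mem h i), Finset.sum_const, LinearMap.zero_apply,
    smul_eq_zero_iff_right (by simp)] at b
  rw [← Module.End.one_apply (R := ℚ) v, ← map_one (rhoR ℚ), ← inv_mul_cancel n, map_mul, Module.End.mul_apply, b,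
    map_zero]

theorem p13_Co0 : P13 Co0 := p13_of_rep rho_inj (by simp) cyc13

theorem one_cb {t : C1} (ht : CB t) (t2 : orderOf t = 2) : One (C t) := by
  have e : ((C t).comap pr).map pr = C t := map_comap_eq_self_of_surjective pr_surj _
  refine (e ▸ (gd_map_iff pr fun x _ hx => ?_).2 ⟨fun N h1 h2 h3 => ?_, p13_Co0.one ?_ fun h => ?_⟩ :).2
  · obtain rfl | rfl := pr_eq_one.1 hx
    exacts [⟨by simp, 0, by simp⟩, ⟨fun y _ => neg1_comm y, 1, by rw [pow_one, sq, neg1_mul_self]⟩]
  · have := ot_C1 t t2 (N.map pr) (e ▸ map_mono h1) (e ▸ (map_mono h2).trans (le_normalizer_map pr))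
      (h3.of_dvd_nat (card_map_dvd _ pr))
    refine eq_bot_iff.2 fun x hx => (pr_eq_one.1 ((Subgroup.map_eq_bot_iff _).1 this hx)).elim id fun e => ?_
    exact absurd (h3.of_dvd_nat ((orderOf_eq_prime (p := 2) (by rw [e, sq, neg1_mul_self]) (e ▸ neg1_ne_one)) ▸
      orderOf_dvd_natCard _ hx)) (by decide)
  · obtain ⟨y, h1, h2⟩ := ht.exists13
    exact (h1 ▸ orderOf_dvd_natCard _ (mem_C.2 h2)).trans (by simpa only [e] using card_map_dvd ((C t).comap pr) pr)
  · have := h.trans (card_subgroup_dvd_card _)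
    rw [card_Co0] at this
    omega

theorem one_C1 : AllOne C1 := fun t ht => by
  obtain ⟨h1, h2⟩ := sq_of_orderOf ht
  obtain h | h | h := (inv_cases h1).resolve_left h2
  · obtain ⟨g, rfl⟩ := E8C.oct_t.ca.exists_conj h
    exact one_of_charP (charP_conj (cp_oct E8C.oct_t) g)
  · exact one_cb h ht
  · obtain ⟨g, rfl⟩ := dod_dD.cc.exists_conj h
    exact one_of_charP (charP_conj (cp_dod dod_dD) g)

end Lee

/-- involution centralisers of Co1 have at most one component, with solvable quotient -/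
theorem one_Co1 {G : Type*} [Group G] [Finite G] (h : Cfsg.Spor.IsoCo1 G) : AllOne G :=
  Lee.one_C1.of_equiv h.some

end CL.KI
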