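import Cfsg.Agent.KSG.KInv.SpJR
import Cfsg.Prelude.Def_Classification2

namespace CL.KI

theorem one_J1 {G : Type*} [Group G] [Finite G] (h : Cfsg.Spor.IsoJ1 G) : AllOne G :=
  h.elim allGd_J1.one.of_equiv

end CL.KI
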