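import Cfsg.Agent.KSG.KInv.OJ4
import Cfsg.Prelude.Def_Classification2

namespace CL.KI

/-- involution centralisers of J4 have at most one component, with solvable quotient -/
theorem one_J4 {G : Type*} [Group G] [Finite G] (h : Cfsg.Spor.IsoJ4 G) : AllOne G := by
  obtain ⟨e⟩ := h
  have := Finite.of_equiv _ e.toEquiv
  exact AllOne.of_equiv (fun t ht => one_of_charP (Fj.cp_J4 t ht)) e

end CL.KI
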